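import Cfsg.Agent.H803.BP.PP
import Cfsg.Agent.H506.Tits.StmtsB
import Cfsg.Agent.H115.Tits.Kill

/-!
# S3414, case (B): `StBRk` (helper803)

`st_brk_of` : `StTab2 → StBS5 → StBRk`.  Some prime `r ≠ p` divides `i_y`: `StTab2`; otherwise `i_y = p ^ e`: `pp_of`.
In both cases `L' y y'` contains the socle of `L y`, which contains an element `≠ 1` with two fixed points: `kill`.
-/

set_option autoImplicit false

namespace Cfsg.Agent.H803.BP

open Subgroup MulAction Cfsg.Agent.H384.TwoTrans Cfsg.Agent.H873.Tits Cfsg.Agent.H506.Tits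

universe u v

theorem st_brk_of (hK : ∀ {G Ω : Type v} [Group G] [MulAction G Ω] {T : Subgroup G}, AS G Ω T → Known2 ↥T (Nat.card Ω))
    (h2 : StTab2.{v}) (h5 : StBS5.{u, v}) : StBRk.{u, v} := by
  intro G _ _ V _ _ P F N b hB y hy hA p a c Q hLQ ⟨k, hk⟩
  obtain ⟨y', ho⟩ := F.exists_opp y
  have hp := hLQ.prime
  have hcard := hLQ.card
  have h3 : 3 ≤ Nat.card {w : V // P.adj y w} := by
    have := hLQ.two_le
    omega
  have hL : P.L' y y' ≤ P.L y := L'_le_L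
  have h2' : TwoTr (P.L' y y') := twoTr_L' F ho
  have hi0 : (P.L' y y').relIndex (P.L y) ≠ 0 := by
    rw [relIndex]
    exact index_ne_zero_of_finite
  by_cases hr : ∃ r : ℕ, r.Prime ∧ r ≠ p ∧ r ∣ (P.L' y y').relIndex (P.L y)
  · obtain ⟨r, hr, hrp, hrd⟩ := hr
    rcases h2 (P.L y) (P.L' y y') (P.q b) p a c Q hLQ h2' hL ⟨k, hk⟩ hA hr hrp hrd with ⟨X, hX, hn, hsw, -⟩ | h
    · have hX1 : X ≠ ⊥ := by
        rintro rfl
        obtain ⟨τ, hτ, h, -⟩ := hsw a c hLQ.ne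
        rw [mem_bot] at hτ
        subst hτ
        exact hLQ.ne h
      obtain ⟨σ, hσ, hσ1, x, z, hxz, hx, hz⟩ := kill_min hLQ.two h3 hA (hX.trans hL) hn hX1
      exact hσ1 (Cfsg.Agent.H115.Tits.kill F hB hy ho X hX hn hxz hσ hx hz)
    · exact h5 P F N hB hy ho h.1 h.2.2.2.1 h.2.2.2.2
  · have hk1 : 1 ≤ k := by
      have h4 := P.two_le b
      by_contra h0
      have h0 : k = 0 := by omega
      rw [hk, h0, pow_zero] at h4
      omega
    have he : (P.L' y y').relIndex (P.L y) = p ^ ((P.L' y y').relIndex (P.L y)).primeFactorsList.length := by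
      apply Nat.eq_prime_pow_of_unique_prime_dvd hi0
      intro q hq hqd
      by_contra hqp
      exact hr ⟨q, hq, hqp, hqd⟩
    obtain ⟨X, hX, hXL, hn, hX1, -, ⟨σ, hσ, hσ1, x, z, hxz, hx, hz⟩, -⟩ :=
      pp_of hK hLQ.two hA hL h2' hp hk1 (by rw [hcard, hk]) he
    exact hσ1 (Cfsg.Agent.H115.Tits.kill F hB hy ho X hX hn hxz hσ hx hz)

end Cfsg.Agent.H803.BP
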