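import Mathlib
import Cfsg.Agent.H384.TwoTransRed
import Cfsg.Agent.H934.OutB
import Cfsg.Agent.S0035
import Cfsg.Agent.S0713

/-!
# S3414: 2-transitive subgroups of `p`-power index in degree `p ^ a + 1` (helper803)

* `key` : the inequality which forces `T ≤ H`;
* `alt_case` : the alternating groups;
* `exists_fix_two` : a simple transitive group is not a Frobenius group.
-/

set_option autoImplicit false
set_option linter.unusedSectionVars false

namespace Cfsg.Agent.H803.BP

open Subgroup MulAction Cfsg.Agent.H384.TwoTrans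
open scoped Pointwise

universe u v

section

variable {G : Type u} {Ω : Type v} [Group G] [MulAction G Ω] {T : Subgroup G}

theorem card_dvd_factorial (A : AS G Ω T) : Nat.card G ∣ (Nat.card Ω).factorial := by
  have := A.faithful
  have := A.finΩ
  have h1 : Nat.card G ∣ Nat.card (Equiv.Perm Ω) :=
    Subgroup.card_dvd_of_injective (MulAction.toPermHom G Ω) MulAction.toPerm_injective
  rwa [Nat.card_perm] at h1

/-- the order of a 2-transitive group -/
theorem dvd_card_of_two {H : Type u} [Group H] [MulAction H Ω] [Finite Ω] (h2 : IsMultiplyPretransitive H Ω 2)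
    (hn : 2 ≤ Nat.card Ω) : Nat.card Ω * (Nat.card Ω - 1) ∣ Nat.card H := by
  have hnt : Nontrivial Ω := Finite.one_lt_card_iff_nontrivial.1 (by omega)
  obtain ⟨a, b, hab⟩ := exists_pair_ne Ω
  have h1 := h2.index_of_fixingSubgroup_mul (s := {a, b}) (Set.ncard_pair hab)
  obtain ⟨k, hk⟩ : ∃ k, Nat.card Ω = k + 2 := ⟨Nat.card Ω - 2, by omega⟩
  rw [hk] at h1 ⊢
  have h3 : (k + 2).factorial = (k + 2) * (k + 1) * k.factorial := by
    rw [Nat.factorial_succ, Nat.factorial_succ]; ring
  rw [Nat.add_sub_cancel, h3] at h1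
  have h4 := Nat.eq_of_mul_eq_mul_right (Nat.factorial_pos k) h1
  rw [show k + 2 - 1 = k + 1 by omega, ← h4]
  exact Subgroup.index_dvd_card _

/-- the order of a simple group with a proper subgroup of index `n` divides `n!` -/
theorem card_dvd_factorial_index {X : Type u} [Group X] [Finite X] [IsSimpleGroup X] {M : Subgroup X} (hM : M ≠ ⊤) :
    Nat.card X ∣ (M.index).factorial := by
  have h1 : (MulAction.toPermHom X (X ⧸ M)).ker = ⊥ := by
    rcases IsSimpleGroup.eq_bot_or_eq_top_of_normal (MulAction.toPermHom X (X ⧸ M)).ker inferInstance with h | h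
    · exact h
    · exfalso
      apply hM
      rw [eq_top_iff]
      intro x _
      have hx : x ∈ (MulAction.toPermHom X (X ⧸ M)).ker := by rw [h]; exact mem_top x
      rw [MonoidHom.mem_ker] at hx
      have h2 := congrArg (fun f : Equiv.Perm (X ⧸ M) => f (QuotientGroup.mk 1)) hx
      have h3 : (QuotientGroup.mk (x * 1) : X ⧸ M) = QuotientGroup.mk 1 := h2
      rw [mul_one] at h3
      have h4 := QuotientGroup.eq.1 h3
      rwa [mul_one, inv_mem_iff] at h4
  have h2 : Nat.card X ∣ Nat.card (Equiv.Perm (X ⧸ M)) :=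
    Subgroup.card_dvd_of_injective _ ((MonoidHom.ker_eq_bot_iff _).1 h1)
  rwa [Nat.card_perm] at h2

theorem factorization_factorial_lt {p n : ℕ} (hp : p.Prime) (hn : 0 < n) : n.factorial.factorization p < n := by
  have := Fact.mk hp
  have h1 := sub_one_mul_padicValNat_factorial (p := p) n
  rw [← Nat.factorization_def _ hp] at h1
  have h2 : 0 < (p.digits n).sum := by
    have h3 : p.digits n ≠ [] := Nat.digits_ne_nil_iff_ne_zero.2 hn.ne'
    have h4 := Nat.getLast_digit_ne_zero p hn.ne'
    have h5 : (p.digits n).getLast h3 ≤ (p.digits n).sum := List.single_le_sum (fun _ _ => Nat.zero_le _) _ (List.getLast_mem _)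
    omega
  have h3 : n.factorial.factorization p ≤ (p - 1) * n.factorial.factorization p :=
    Nat.le_mul_of_pos_left _ (by have := hp.two_le; omega)
  omega

/-- the index of `T ⊓ H` in `T` divides the index of `H` -/
theorem relIndex_dvd_index [Finite G] (H : Subgroup G) (hT : T.Normal) : H.relIndex T ∣ H.index := by
  have h1 : T.relIndex (H ⊔ T) = T.relIndex H := Subgroup.relIndex_sup_right H T
  have e1 : Nat.card ↥T * T.relIndex (H ⊔ T) = Nat.card ↥(H ⊔ T) := by
    have := (T.subgroupOf (H ⊔ T)).card_mul_index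
    rwa [Nat.card_congr (Subgroup.subgroupOfEquivOfLe le_sup_right).toEquiv] at this
  have e2 : Nat.card ↥(H ⊓ T) * T.relIndex H = Nat.card ↥H := by
    have := ((T ⊓ H).subgroupOf H).card_mul_index
    rw [Nat.card_congr (Subgroup.subgroupOfEquivOfLe inf_le_right).toEquiv] at this
    have h3 : ((T ⊓ H).subgroupOf H).index = T.relIndex H := Subgroup.inf_relIndex_right T H
    rw [h3] at this
    rwa [inf_comm]
  have e3 : Nat.card ↥(H ⊓ T) * H.relIndex T = Nat.card ↥T := by
    have := ((H ⊓ T).subgroupOf T).card_mul_index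
    rw [Nat.card_congr (Subgroup.subgroupOfEquivOfLe inf_le_right).toEquiv] at this
    have h3 : ((H ⊓ T).subgroupOf T).index = H.relIndex T := Subgroup.inf_relIndex_right H T
    rwa [h3] at this
  have e4 : Nat.card ↥H * H.relIndex (H ⊔ T) = Nat.card ↥(H ⊔ T) := by
    have := (H.subgroupOf (H ⊔ T)).card_mul_index
    rwa [Nat.card_congr (Subgroup.subgroupOfEquivOfLe le_sup_left).toEquiv] at this
  have h5 : H.relIndex T = H.relIndex (H ⊔ T) := by
    have hpos : 0 < Nat.card ↥H * Nat.card ↥(H ⊓ T) := Nat.mul_pos Nat.card_pos Nat.card_pos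
    apply Nat.eq_of_mul_eq_mul_left hpos
    calc Nat.card ↥H * Nat.card ↥(H ⊓ T) * H.relIndex T = Nat.card ↥H * (Nat.card ↥(H ⊓ T) * H.relIndex T) := by ring
      _ = Nat.card ↥H * Nat.card ↥T := by rw [e3]
      _ = (Nat.card ↥(H ⊓ T) * T.relIndex H) * Nat.card ↥T := by rw [e2]
      _ = Nat.card ↥(H ⊓ T) * (Nat.card ↥T * T.relIndex (H ⊔ T)) := by rw [h1]; ring
      _ = Nat.card ↥(H ⊓ T) * (Nat.card ↥H * H.relIndex (H ⊔ T)) := by rw [e1, e4]
      _ = _ := by ring
  rw [h5]
  exact Subgroup.relIndex_dvd_index_of_le le_sup_left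

theorem factorization_card (A : AS G Ω T) (p : ℕ) :
    (Nat.card G).factorization p = (Nat.card ↥T).factorization p + T.index.factorization p := by
  have := A.finG
  rw [← T.card_mul_index, Nat.factorization_mul Nat.card_pos.ne' Subgroup.index_ne_zero_of_finite, Finsupp.add_apply]

/-- `p^e ≤` the `p`-part of the index of `T` -/
theorem e_le (A : AS G Ω T) {p e : ℕ} (hp : p.Prime) {H : Subgroup G} (he : H.index = p ^ e) (hTH : T ≤ H) :
    p ^ e ≤ p ^ T.index.factorization p := by
  have := A.finG
  apply Nat.pow_le_pow_right hp.pos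
  have h1 : p ^ e ∣ T.index := he ▸ Subgroup.index_dvd_of_le hTH
  exact (hp.pow_dvd_iff_le_factorization Subgroup.index_ne_zero_of_finite).1 h1

theorem factorization_two (A : AS G Ω T) {p a e : ℕ} (hp : p.Prime) (hc : Nat.card Ω = p ^ a + 1) {H : Subgroup G}
    (hH : IsMultiplyPretransitive H Ω 2) (he : H.index = p ^ e) :
    a + e ≤ (Nat.card G).factorization p := by
  have := A.finG
  have := A.finΩ
  have h5 := A.five_le
  have h1 := dvd_card_of_two hH (by omega)
  have h2 : p ^ a * p ^ e ∣ Nat.card G := by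
    rw [← H.card_mul_index, he]
    refine Nat.mul_dvd_mul_right ?_ _
    refine dvd_trans ?_ h1
    rw [hc, Nat.add_sub_cancel]
    exact Dvd.intro_left _ rfl
  rw [← pow_add] at h2
  exact (hp.pow_dvd_iff_le_factorization Nat.card_pos.ne').1 h2

/-- **the key inequality** -/
theorem key (A : AS G Ω T) {p a e : ℕ} (hp : p.Prime) (hc : Nat.card Ω = p ^ a + 1) {H : Subgroup G}
    (hH : IsMultiplyPretransitive H Ω 2) (he : H.index = p ^ e)
    (hineq : p ^ (Nat.card ↥T).factorization p * p ^ T.index.factorization p ≤ (Nat.card ↥T).factorization p * p ^ a) :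
    T ≤ H := by
  have := A.finG
  have := A.finT
  have := A.simple
  have hT := A.normal
  obtain ⟨j, hje, hj⟩ : ∃ j ≤ e, H.relIndex T = p ^ j := (Nat.dvd_prime_pow hp).1 (he ▸ relIndex_dvd_index H hT)
  have hfac := factorization_two A hp hc hH he
  rw [factorization_card A] at hfac
  by_contra hcon
  have hM : H.subgroupOf T ≠ ⊤ := fun h => hcon (Subgroup.subgroupOf_eq_top.1 h)
  have h1 := card_dvd_factorial_index hM
  have h2 : (H.subgroupOf T).index = p ^ j := hj
  rw [h2] at h1
  have h3 : (Nat.card ↥T).factorization p ≤ (p ^ j).factorial.factorization p :=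
    (Nat.factorization_le_iff_dvd Nat.card_pos.ne' (Nat.factorial_ne_zero _)).2 h1 p
  have h4 := factorization_factorial_lt hp (n := p ^ j) (Nat.pow_pos hp.pos)
  have h5 : p ^ a * p ^ j ≤ p ^ (Nat.card ↥T).factorization p * p ^ T.index.factorization p := by
    rw [← pow_add, ← pow_add]
    exact Nat.pow_le_pow_right hp.pos (by omega)
  have h6 : (Nat.card ↥T).factorization p * p ^ a < p ^ a * p ^ j := by
    rw [mul_comm (p ^ a)]
    exact Nat.mul_lt_mul_of_pos_right (lt_of_le_of_lt h3 h4) (Nat.pow_pos hp.pos)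
  omega

/-- degree `p + 1` -/
theorem degree_one (A : AS G Ω T) {p e : ℕ} (hp : p.Prime) (hc : Nat.card Ω = p ^ 1 + 1) {H : Subgroup G}
    (hH : IsMultiplyPretransitive H Ω 2) (he : H.index = p ^ e) : e = 0 := by
  have := A.finG
  have h1 := factorization_two A hp hc hH he
  have h5 := A.five_le
  rw [hc, pow_one] at h5
  have h2 : (Nat.card G).factorization p ≤ (p + 1).factorial.factorization p := by
    have h3 := card_dvd_factorial A
    rw [hc, pow_one] at h3
    exact (Nat.factorization_le_iff_dvd Nat.card_pos.ne' (Nat.factorial_ne_zero _)).2 h3 p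
  have h3 : (p + 1).factorial.factorization p = 1 := by
    obtain ⟨q, rfl⟩ : ∃ q, p = q + 1 := ⟨p - 1, by omega⟩
    have e1 : (q + 1 + 1).factorization (q + 1) = 0 := by
      apply Nat.factorization_eq_zero_of_not_dvd
      intro h
      have h6 : q + 1 ∣ 1 := by
        have := Nat.dvd_sub h (dvd_refl (q + 1))
        rwa [show q + 1 + 1 - (q + 1) = 1 by omega] at this
      have := Nat.le_of_dvd one_pos h6
      omega
    have e2 : q.factorial.factorization (q + 1) = 0 := by
      apply Nat.factorization_eq_zero_of_not_dvd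
      intro h
      have := (hp.dvd_factorial).1 h
      omega
    rw [Nat.factorial_succ, Nat.factorial_succ, Nat.factorization_mul (by omega) (by positivity),
      Nat.factorization_mul (by omega) (Nat.factorial_ne_zero _), Finsupp.add_apply, Finsupp.add_apply, hp.factorization_self,
      e1, e2]
    norm_num
  omega

/-- `|G : T|` divides `|Out T|` -/
theorem index_dvd_out (A : AS G Ω T) : T.index ∣ Nat.card (Cfsg.Out ↥T) := by
  have := A.finG
  have := A.finT
  have := A.simple
  have hT := A.normal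
  have h1 := Cfsg.Agent.H934.OutB.card_out_mul ↥T A.nonab
  have hinj : Function.Injective (MulAut.conjNormal : G →* MulAut ↥T) := by
    rw [← MonoidHom.ker_eq_bot_iff, eq_bot_iff]
    intro g hg
    rw [← A.cent, Subgroup.mem_centralizer_iff]
    intro t ht
    rw [MonoidHom.mem_ker] at hg
    have h2 := congrArg (fun f : MulAut ↥T => ((f ⟨t, ht⟩ : ↥T) : G)) hg
    have h3 : g * t * g⁻¹ = t := h2
    calc t * g = (g * t * g⁻¹) * g := by rw [h3]
      _ = g * t := by group
  have h2 : Nat.card G ∣ Nat.card (MulAut ↥T) := Subgroup.card_dvd_of_injective _ hinj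
  rw [← h1, ← T.card_mul_index, mul_comm] at h2
  exact Nat.dvd_of_mul_dvd_mul_right Nat.card_pos h2

/-- the `p`-part of `|G : T|` when `|Out T| = g * f` with `p ∤ g` -/
theorem ppart_le (A : AS G Ω T) {p g f : ℕ} (h : Nat.card (Cfsg.Out ↥T) = g * f) (hg : Nat.Coprime p g)
    (hf : 0 < f) : p ^ T.index.factorization p ≤ f := by
  have h1 : p ^ T.index.factorization p ∣ g * f := h ▸ (Nat.ordProj_dvd _ _).trans (index_dvd_out A)
  exact Nat.le_of_dvd hf ((Nat.Coprime.pow_left _ hg).dvd_of_dvd_mul_left h1)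

/-- **a simple transitive group is not a Frobenius group** -/
theorem exists_fix_two (A : AS G Ω T) : ∃ x ∈ T, x ≠ 1 ∧ ∃ a b : Ω, a ≠ b ∧ x • a = a ∧ x • b = b := by
  have := A.finG
  have := A.finT
  have := A.finΩ
  have := A.simple
  have hT := A.normal
  have htr := A.transitive
  have hF := A.faithfulT
  have hnt := A.nontrivialΩ
  by_contra hcon
  push Not at hcon
  obtain ⟨a⟩ : Nonempty Ω := inferInstance
  have hreg : stabilizer T a ≠ ⊥ := by
    intro h
    have hall : ∀ b : Ω, stabilizer T b = ⊥ := by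
      intro b
      obtain ⟨g, rfl⟩ := exists_smul_eq T a b
      rw [stabilizer_smul_eq_stabilizer_map_conj, h, Subgroup.map_bot]
    have h2 := Cfsg.Agent.PermutationGroups.TwoTransitiveNormal.regular_normal_elementary_abelian A.two' T hall
    exact A.nonab h2.1
  have htop : stabilizer T a ≠ ⊤ := by
    intro h
    have h1 := A.index_stabilizer a
    rw [h, Subgroup.index_top] at h1
    have := A.five_le
    omega
  have hfr : Cfsg.IsFrobeniusComplement (stabilizer T a) := by
    refine ⟨hreg, htop, fun g hg => ?_⟩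
    rw [eq_bot_iff]
    rintro x ⟨hx1, hx2⟩
    rw [Subgroup.mem_bot]
    by_contra hx0
    change x • a = a at hx1
    change x ∈ MulAut.conj g • stabilizer T a at hx2
    have h1 : x • (g • a) = g • a := by
      rw [Subgroup.mem_pointwise_smul_iff_inv_smul_mem] at hx2
      have h2 : (g⁻¹ * x * g) • a = a := by
        have : ((MulAut.conj g)⁻¹ • x) = g⁻¹ * x * g := by
          rw [← map_inv]
          show MulAut.conj g⁻¹ x = _
          rw [MulAut.conj_apply, inv_inv]
        rw [this] at hx2
        exact hx2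
      rw [mul_smul, mul_smul, inv_smul_eq_iff] at h2
      exact h2
    refine hcon x x.2 (fun h => hx0 (Subtype.ext h)) a (g • a) ?_ hx1 h1
    intro h
    exact hg h.symm
  obtain ⟨N, -, hN, hcomp⟩ := Cfsg.Agent.S0035.result (stabilizer T a) hfr
  rcases IsSimpleGroup.eq_bot_or_eq_top_of_normal N hN with h | h
  · rw [h] at hcomp
    exact htop (Subgroup.isComplement'_bot_left.1 hcomp)
  · rw [h] at hcomp
    exact hreg (Subgroup.isComplement'_top_left.1 hcomp)

/-- the image of a 2-transitive subgroup -/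
theorem two_map {H : Subgroup G} (hH : IsMultiplyPretransitive H Ω 2) :
    IsMultiplyPretransitive (H.map (MulAction.toPermHom G Ω)) Ω 2 := by
  rw [is_two_pretransitive_iff] at hH ⊢
  intro a b c d hab hcd
  obtain ⟨g, h1, h2⟩ := hH hab hcd
  exact ⟨⟨_, ⟨g, g.2, rfl⟩⟩, h1, h2⟩

/-- an element of prime order `r` is conjugate into a subgroup of index prime to `r` -/
theorem exists_conj_mem [Finite G] {r : ℕ} (hr : r.Prime) {H : Subgroup G} (hi : ¬ r ∣ H.index) {g : G} (hg : orderOf g = r) :
    ∃ x : G, x⁻¹ * g * x ∈ H := by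
  have := Fact.mk hr
  have hp : IsPGroup r (Subgroup.zpowers g) := by
    refine IsPGroup.of_card (n := 1) ?_
    rw [Nat.card_zpowers, hg, pow_one]
  obtain ⟨⟨x⟩, hx⟩ := hp.nonempty_fixed_point_of_prime_not_dvd_card (G ⧸ H) hi
  have h1 : (⟨g, Subgroup.mem_zpowers g⟩ : Subgroup.zpowers g) • (QuotientGroup.mk x : G ⧸ H) = QuotientGroup.mk x := hx _
  have h2 : (QuotientGroup.mk (g * x) : G ⧸ H) = QuotientGroup.mk x := h1
  refine ⟨x, ?_⟩
  have h3 := QuotientGroup.eq.1 h2.symm
  rwa [← mul_assoc] at h3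

/-- **the alternating groups** -/
theorem alt_case (A : AS G Ω T) {p a e : ℕ} (hp : p.Prime) (ha : 2 ≤ a) (hc : Nat.card Ω = p ^ a + 1) {H : Subgroup G}
    (hH : IsMultiplyPretransitive H Ω 2) (he : H.index = p ^ e) (hT : 2 * Nat.card ↥T = (Nat.card Ω).factorial) :
    T ≤ H ∧ p ^ e ≤ 2 := by
  classical
  have := A.finG
  have := A.finΩ
  have := A.faithful
  have := A.nontrivialΩ
  have h5 := A.five_le
  have := Fintype.ofFinite Ω
  have hinj : Function.Injective (MulAction.toPermHom G Ω) := MulAction.toPerm_injective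
  have hcT : Nat.card ↥(T.map (MulAction.toPermHom G Ω)) = Nat.card ↥T :=
    (Nat.card_congr (T.equivMapOfInjective _ hinj).toEquiv).symm
  have hA : T.map (MulAction.toPermHom G Ω) = alternatingGroup Ω := by
    apply Equiv.Perm.eq_alternatingGroup_of_index_eq_two
    have h1 := (T.map (MulAction.toPermHom G Ω)).card_mul_index
    rw [Nat.card_perm, ← hT, hcT, mul_comm 2] at h1
    exact Nat.eq_of_mul_eq_mul_left Nat.card_pos h1
  have hprim : IsPreprimitive (H.map (MulAction.toPermHom G Ω)) Ω :=
    isPreprimitive_of_is_two_pretransitive (two_map hH)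
  -- an `r`-cycle in the image of `H`
  have hcyc : ∀ r : ℕ, r.Prime → r ≠ 2 → r ≠ p → r ≤ Nat.card Ω →
      ∃ σ ∈ H.map (MulAction.toPermHom G Ω), σ.cycleType = {r} := by
    intro r hr hr2 hrp hrn
    obtain ⟨σ, hσ⟩ := (Equiv.Perm.exists_with_cycleType_iff (α := Ω) (m := {r})).2
      ⟨by rw [Multiset.sum_singleton, ← Nat.card_eq_fintype_card]; exact hrn,
        fun x hx => by rw [Multiset.mem_singleton.1 hx]; exact hr.two_le⟩
    have hσA : σ ∈ alternatingGroup Ω := by
      rw [Equiv.Perm.mem_alternatingGroup, Equiv.Perm.sign_of_cycleType, hσ, Multiset.sum_singleton, Multiset.card_singleton]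
      have : Even (r + 1) := (hr.odd_of_ne_two hr2).add_one
      exact this.neg_one_pow
    rw [← hA] at hσA
    obtain ⟨g, hgT, rfl⟩ := hσA
    have hord : orderOf g = r := by
      rw [← orderOf_injective _ hinj g, ← Equiv.Perm.lcm_cycleType, hσ, Multiset.lcm_singleton]
      exact normalize_eq r
    obtain ⟨x, hx⟩ := exists_conj_mem hr (H := H) (by
      rw [he]
      intro h
      exact hrp ((Nat.prime_dvd_prime_iff_eq hr hp).1 (hr.dvd_of_dvd_pow h))) hord
    refine ⟨_, ⟨_, hx, rfl⟩, ?_⟩
    rw [map_mul, map_mul, map_inv]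
    have := Equiv.Perm.cycleType_conj (τ := (MulAction.toPermHom G Ω x)⁻¹) (σ := MulAction.toPermHom G Ω g)
    rw [inv_inv] at this
    rw [this, hσ]
  have hle : alternatingGroup Ω ≤ H.map (MulAction.toPermHom G Ω) := by
    by_cases h3 : p = 3
    · obtain ⟨σ, hσ, hσc⟩ := hcyc 5 (by norm_num) (by norm_num) (by rw [h3]; norm_num) h5
      have h10 : 10 ≤ Nat.card Ω := by
        rw [hc, h3]
        have : 3 ^ 2 ≤ 3 ^ a := Nat.pow_le_pow_right (by norm_num) ha
        omega
      refine Cfsg.Agent.S0713.result _ hprim (p := 5) (by norm_num) (by rw [← Nat.card_eq_fintype_card]; omega)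
        (by rw [← Nat.card_eq_fintype_card]; omega) (g := σ) ?_ ?_ hσ
      · rw [← Equiv.Perm.card_cycleType_eq_one, hσc, Multiset.card_singleton]
      · rw [← Equiv.Perm.sum_cycleType, hσc, Multiset.sum_singleton]
    · obtain ⟨σ, hσ, hσc⟩ := hcyc 3 (by norm_num) (by norm_num) (fun h => h3 h.symm) (by omega)
      exact Equiv.Perm.alternatingGroup_le_of_isPreprimitive_of_isThreeCycle_mem hprim hσc hσ
  have hTH : T ≤ H := by
    rw [← hA] at hle
    exact (Subgroup.map_le_map_iff_of_injective hinj).1 hle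
  refine ⟨hTH, ?_⟩
  have h1 := card_dvd_factorial A
  rw [← hT, ← T.card_mul_index, mul_comm 2] at h1
  have h2 : T.index ∣ 2 := Nat.dvd_of_mul_dvd_mul_left Nat.card_pos h1
  rw [← he]
  exact Nat.le_of_dvd (by norm_num) ((Subgroup.index_dvd_of_le hTH).trans h2)

end

end Cfsg.Agent.H803.BP
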