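import Cfsg.Agent.H803.BP.Rows
import Cfsg.Agent.H384.TwoTransRed
import Cfsg.Agent.H873.Tits.Bridge

/-!
# S3414: 2-transitive subgroups of `p`-power index in degree `p ^ a + 1`, permutation groups (helper803)

* `exists_as` : a 2-transitive permutation group `L` which is not affine is almost simple;
* `kill_min` : the (minimal) normal subgroup of such a group contains an element `≠ 1` fixing two points;
* `pp_of` : `L' ≤ L` 2-transitive of index `p ^ e` in degree `p ^ a + 1`: `L'` contains the socle.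
-/

set_option autoImplicit false

namespace Cfsg.Agent.H803.BP

open Subgroup MulAction Cfsg.Agent.H384.TwoTrans Cfsg.Agent.H873.Tits

universe v

variable {Ω : Type v} {L L' : Subgroup (Equiv.Perm Ω)}

theorem twoPre (h : TwoTr L) : IsMultiplyPretransitive L Ω 2 := by
  rw [is_two_pretransitive_iff]
  intro a b c d hab hcd
  obtain ⟨g, hg, h1, h2⟩ := h a b c d hab hcd
  exact ⟨⟨g, hg⟩, h1, h2⟩

theorem subgroupOf_map (N : Subgroup L) : (N.map L.subtype).subgroupOf L = N := by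
  ext x
  constructor
  · rintro ⟨y, hy, hyx⟩
    have : y = x := L.subtype_injective hyx
    rwa [← this]
  · intro hx
    exact ⟨x, hx, rfl⟩

theorem map_le (N : Subgroup L) : N.map L.subtype ≤ L := by
  rintro _ ⟨x, -, rfl⟩
  exact x.2

/-- a 2-transitive permutation group which is not affine is almost simple -/
theorem exists_as [Finite Ω] (h2 : TwoTr L) (h3 : 3 ≤ Nat.card Ω) (hA : ¬ Aff L) : ∃ T : Subgroup L, AS L Ω T := by
  have : FaithfulSMul L Ω := ⟨fun {a b} h => Subtype.ext (Equiv.ext h)⟩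
  rcases reduction (twoPre h2) h3 with ⟨N, hN, -, hNc, -, htr, hreg⟩ | ⟨T, A⟩
  · exfalso
    apply hA
    have hinj := L.subtype_injective
    let e : N ≃* N.map L.subtype := N.equivMapOfInjective _ hinj
    refine ⟨N.map L.subtype, map_le N, ?_, ⟨⟨fun x y => e.symm.injective (by rw [map_mul, map_mul, hNc.is_comm.comm])⟩⟩,
      ⟨?_⟩, ?_⟩
    · rw [subgroupOf_map]
      exact hN
    · intro x y
      obtain ⟨n, hn, h⟩ := htr x y
      exact ⟨⟨n, ⟨n, hn, rfl⟩⟩, h⟩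
    · intro x
      rw [eq_bot_iff]
      rintro ⟨_, n, hn, rfl⟩ hnx
      rw [mem_bot]
      have h1 := hreg x n hn hnx
      apply Subtype.ext
      change (n : Equiv.Perm Ω) = 1
      rw [h1]
      rfl
  · exact ⟨T, A⟩

theorem map_min {T : Subgroup L} (A : AS L Ω T) {N : Subgroup (Equiv.Perm Ω)} (hNL : N ≤ L) (hN : (N.subgroupOf L).Normal)
    (hN1 : N ≠ ⊥) : T.map L.subtype ≤ N := by
  have h1 := A.le_of_normal (N.subgroupOf L) hN (by
    intro h
    rw [subgroupOf_eq_bot, disjoint_iff, inf_eq_left.2 hNL] at h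
    exact hN1 h)
  rintro _ ⟨x, hx, rfl⟩
  exact h1 hx

theorem exists_fix {T : Subgroup L} (A : AS L Ω T) :
    ∃ σ ∈ T.map L.subtype, σ ≠ 1 ∧ ∃ x z : Ω, x ≠ z ∧ σ x = x ∧ σ z = z := by
  obtain ⟨g, hg, hg1, a, b, hab, ha, hb⟩ := exists_fix_two A
  refine ⟨g, ⟨g, hg, rfl⟩, ?_, a, b, hab, ha, hb⟩
  intro h
  exact hg1 (Subtype.ext h)

/-- a normal subgroup `X ≠ 1` of a 2-transitive group which is not affine contains an element `≠ 1` fixing two points -/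
theorem kill_min [Finite Ω] (h2 : TwoTr L) (h3 : 3 ≤ Nat.card Ω) (hA : ¬ Aff L) {X : Subgroup (Equiv.Perm Ω)} (hXL : X ≤ L)
    (hX : (X.subgroupOf L).Normal) (hX1 : X ≠ ⊥) : ∃ σ ∈ X, σ ≠ 1 ∧ ∃ x z : Ω, x ≠ z ∧ σ x = x ∧ σ z = z := by
  obtain ⟨T, A⟩ := exists_as h2 h3 hA
  obtain ⟨σ, hσ, h⟩ := exists_fix A
  exact ⟨σ, map_min A hXL hX hX1 hσ, h⟩

/-- `L' ≤ L` 2-transitive, `L` not affine, of degree `p ^ a + 1`, `L'` of index `p ^ e` -/
theorem pp_of (hK : ∀ {G Ω : Type v} [Group G] [MulAction G Ω] {T : Subgroup G}, AS G Ω T → Known2 ↥T (Nat.card Ω)) [Finite Ω]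
    (h2 : TwoTr L) (hA : ¬ Aff L) (hL : L' ≤ L) (h2' : TwoTr L') {p a e : ℕ} (hp : p.Prime) (ha : 1 ≤ a)
    (hc : Nat.card Ω = p ^ a + 1) (he : L'.relIndex L = p ^ e) :
    ∃ X : Subgroup (Equiv.Perm Ω), X ≤ L' ∧ X ≤ L ∧ (X.subgroupOf L).Normal ∧ X ≠ ⊥ ∧
      (∀ N : Subgroup (Equiv.Perm Ω), N ≤ L → (N.subgroupOf L).Normal → N ≠ ⊥ → X ≤ N) ∧
      (∃ σ ∈ X, σ ≠ 1 ∧ ∃ x z : Ω, x ≠ z ∧ σ x = x ∧ σ z = z) ∧ p ^ e ≤ max a 2 := by
  have h3 : 3 ≤ Nat.card Ω := by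
    have h4 : p ^ 1 ≤ p ^ a := Nat.pow_le_pow_right hp.pos ha
    have h5 := hp.two_le
    rw [pow_one] at h4
    omega
  obtain ⟨T, A⟩ := exists_as h2 h3 hA
  have hH : IsMultiplyPretransitive (L'.subgroupOf L) Ω 2 := by
    rw [is_two_pretransitive_iff]
    intro a b c d hab hcd
    obtain ⟨g, hg, h1, h2⟩ := h2' a b c d hab hcd
    exact ⟨⟨⟨g, hL hg⟩, hg⟩, h1, h2⟩
  obtain ⟨h6, h7⟩ := main A (hK A) hp ha hc hH he
  have h8 := exists_fix A
  refine ⟨T.map L.subtype, ?_, map_le T, ?_, ?_, fun N h1 h2 h3 => map_min A h1 h2 h3, h8, h7⟩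
  · rintro _ ⟨x, hx, rfl⟩
    exact h6 hx
  · rw [subgroupOf_map]
    exact A.normal
  · rintro h
    obtain ⟨σ, hσ, hσ1, -⟩ := h8
    rw [h, mem_bot] at hσ
    exact hσ1 hσ

end Cfsg.Agent.H803.BP
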