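import Cfsg.Agent.H803.BP.Core
import Cfsg.Agent.S0243
import Cfsg.Agent.S0280
import Cfsg.Agent.S0813
import Cfsg.Agent.S0814
import Cfsg.Agent.S0815
import Cfsg.Agent.S1069
import Cfsg.Agent.S1163
import Cfsg.Agent.S2126
import Cfsg.Agent.S2127
import Cfsg.Agent.S0245
import Cfsg.Agent.S0246
import Cfsg.Agent.ClassicalGeometry.PSL2Basic

/-!
# S3414: 2-transitive subgroups of `p`-power index in degree `p ^ a + 1` (helper803)

`main` : for an almost simple 2-transitive group `G` of degree `p ^ a + 1` with socle `T` and a 2-transitive subgroup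
`H` of index `p ^ e` : `T ≤ H` and `p ^ e ≤ max a 2`.
-/

set_option autoImplicit false
set_option linter.unusedSectionVars false

namespace Cfsg.Agent.H803.BP

open Subgroup MulAction Cfsg.Agent.H384.TwoTrans

universe u v

/-! ### arithmetic -/

theorem fac_of_mul {p a N c K : ℕ} (hp : p.Prime) (h : N * c = p ^ a * K) (hN : ¬ p ∣ N) (hK : ¬ p ∣ K) :
    c.factorization p = a := by
  have hK0 : K ≠ 0 := fun h0 => hK (h0 ▸ dvd_zero p)
  have hN0 : N ≠ 0 := fun h0 => hN (h0 ▸ dvd_zero p)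
  have hc0 : c ≠ 0 := by
    intro h0
    rw [h0, Nat.mul_zero] at h
    exact (Nat.mul_ne_zero (pow_ne_zero _ hp.ne_zero) hK0) h.symm
  have h1 := congrArg (fun x => x.factorization p) h
  rw [Nat.factorization_mul hN0 hc0, Nat.factorization_mul (pow_ne_zero _ hp.ne_zero) hK0, Finsupp.add_apply, Finsupp.add_apply,
    Nat.factorization_eq_zero_of_not_dvd hN, Nat.factorization_eq_zero_of_not_dvd hK, hp.factorization_pow,
    Finsupp.single_eq_same] at h1
  omega

theorem not_dvd_pred {p q : ℕ} (hp : p.Prime) (hq : p ∣ q) (h0 : 0 < q) : ¬ p ∣ q - 1 := by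
  intro h
  have h1 := Nat.dvd_sub hq h
  rw [show q - (q - 1) = 1 by omega] at h1
  exact hp.one_lt.ne' (Nat.dvd_one.1 h1)

theorem not_dvd_succ {p q : ℕ} (hp : p.Prime) (hq : p ∣ q) : ¬ p ∣ q + 1 := by
  intro h
  have h1 := Nat.dvd_sub h hq
  rw [show q + 1 - q = 1 by omega] at h1
  exact hp.one_lt.ne' (Nat.dvd_one.1 h1)

/-- `(q^d - 1)/(q - 1) = p^a + 1` only for `d = 2`, `q = p^a` -/
theorem psl_num {p a q d : ℕ} (hp : p.Prime) (hd : 2 ≤ d) (hq : 2 ≤ q) (h : (p ^ a + 1) * (q - 1) = q ^ d - 1) :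
    d = 2 ∧ q = p ^ a := by
  obtain ⟨k, rfl⟩ : ∃ k, d = k + 2 := ⟨d - 2, by omega⟩
  obtain ⟨r, rfl⟩ : ∃ r, q = r + 1 := ⟨q - 1, by omega⟩
  have h1 := Nat.geomSum_eq (m := r + 1) (by omega) (k + 2)
  have h2 : (∑ i ∈ Finset.range (k + 2), (r + 1) ^ i) * r = (r + 1) ^ (k + 2) - 1 := by
    have := Nat.pred_mul_geom_sum_le
    have h3 := geom_sum_mul_add r (k + 2)
    omega
  rw [Nat.add_sub_cancel] at h
  have hr : 0 < r := by omega
  have h3 : p ^ a + 1 = ∑ i ∈ Finset.range (k + 2), (r + 1) ^ i := by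
    apply Nat.eq_of_mul_eq_mul_right hr
    rw [h, h2]
  rw [Finset.sum_range_succ'] at h3
  simp only [pow_zero] at h3
  have h4 : p ^ a = (r + 1) * ∑ i ∈ Finset.range (k + 1), (r + 1) ^ i := by
    rw [Finset.mul_sum]
    have : ∑ i ∈ Finset.range (k + 1), (r + 1) ^ (i + 1) = ∑ i ∈ Finset.range (k + 1), (r + 1) * (r + 1) ^ i :=
      Finset.sum_congr rfl fun i _ => by rw [pow_succ']
    omega
  obtain ⟨c, -, hc⟩ : ∃ c ≤ a, r + 1 = p ^ c := (Nat.dvd_prime_pow hp).1 (h4 ▸ Dvd.intro _ rfl)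
  obtain ⟨c', -, hc'⟩ : ∃ c' ≤ a, ∑ i ∈ Finset.range (k + 1), (r + 1) ^ i = p ^ c' :=
    (Nat.dvd_prime_pow hp).1 (h4 ▸ Dvd.intro_left _ rfl)
  have hc0 : c ≠ 0 := by
    rintro rfl
    rw [pow_zero] at hc
    omega
  rcases Nat.eq_zero_or_pos k with rfl | hk
  · refine ⟨rfl, ?_⟩
    rw [h4]
    simp
  · exfalso
    rw [Finset.sum_range_succ'] at hc'
    simp only [pow_zero] at hc'
    obtain ⟨k', rfl⟩ : ∃ k', k = k' + 1 := ⟨k - 1, by omega⟩
    have h5 : ∑ i ∈ Finset.range (k' + 1), (r + 1) ^ (i + 1) = (r + 1) * ∑ i ∈ Finset.range (k' + 1), (r + 1) ^ i := by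
      rw [Finset.mul_sum]
      exact Finset.sum_congr rfl fun i _ => by rw [pow_succ']
    rw [h5] at hc'
    have h6 : 0 < ∑ i ∈ Finset.range (k' + 1), (r + 1) ^ i := by
      rw [Finset.sum_range_succ']
      simp
    have hp1 : p ∣ (r + 1) * ∑ i ∈ Finset.range (k' + 1), (r + 1) ^ i := by
      rw [hc]
      exact Dvd.dvd.mul_right (dvd_pow_self p hc0) _
    have hc'0 : c' ≠ 0 := by
      rintro rfl
      rw [pow_zero] at hc'
      have : 0 < (r + 1) * ∑ i ∈ Finset.range (k' + 1), (r + 1) ^ i := Nat.mul_pos (by omega) h6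
      omega
    exact not_dvd_succ hp hp1 (hc' ▸ dvd_pow_self p hc'0)

/-- powers of a prime with a given value, exponent at least 2 -/
theorem pow_ne_of_sq {p a N : ℕ} (hp : p.Prime) (ha : 2 ≤ a) (hN : Squarefree N) : p ^ a ≠ N := by
  intro h
  have h1 : p * p ∣ N := by
    rw [← h, ← pow_two]
    exact pow_dvd_pow p ha
  have := hN p h1
  exact hp.one_lt.ne' (Nat.isUnit_iff.1 this)

theorem pow_ne_of_two {p a N r s : ℕ} (hp : p.Prime) (hr : r.Prime) (hs : s.Prime) (hrs : r ≠ s) (h1 : r ∣ N) (h2 : s ∣ N) :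
    p ^ a ≠ N := by
  intro h
  have h3 := (Nat.prime_dvd_prime_iff_eq hr hp).1 (hr.dvd_of_dvd_pow (h ▸ h1))
  have h4 := (Nat.prime_dvd_prime_iff_eq hs hp).1 (hs.dvd_of_dvd_pow (h ▸ h2))
  exact hrs (h3.trans h4.symm)

/-- the degrees of `Sp_2m(2)` -/
theorem sp_num {p a m : ℕ} (hp : p.Prime) (hm : 3 ≤ m)
    (h : p ^ a + 1 = 2 ^ (m - 1) * (2 ^ m + 1) ∨ p ^ a + 1 = 2 ^ (m - 1) * (2 ^ m - 1)) : m = 3 ∧ p ^ a = 27 := by
  obtain ⟨k, rfl⟩ : ∃ k, m = k + 3 := ⟨m - 3, by omega⟩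
  have e1 : 2 ^ (k + 3) = 2 * 2 ^ (k + 2) := by rw [pow_succ]; ring
  have e2 : 2 ^ (k + 2) = 4 * 2 ^ k := by rw [pow_add]; ring
  rw [show k + 3 - 1 = k + 2 by omega, e1, e2] at h
  have hx : 0 < 2 ^ k := by positivity
  set x := 2 ^ k with hxdef
  -- powers of `p` dividing `p ^ a`
  have hthree : ∀ u v : ℕ, 1 < u → 1 < v → u ∣ p ^ a → v ∣ p ^ a → (u = 2 * v + 3 ∨ u + 3 = 2 * v) →
      p = 3 ∧ (u = 3 ∨ v = 3) := by
    intro u v hu hv hu' hv' huv
    obtain ⟨i, -, rfl⟩ := (Nat.dvd_prime_pow hp).1 hu'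
    obtain ⟨j, -, rfl⟩ := (Nat.dvd_prime_pow hp).1 hv'
    have hi : i ≠ 0 := by rintro rfl; simp at hu
    have hj : j ≠ 0 := by rintro rfl; simp at hv
    have h3 : p ∣ 3 := by
      have d1 : p ∣ p ^ i := dvd_pow_self p hi
      have d2 : p ∣ 2 * p ^ j := Dvd.dvd.mul_left (dvd_pow_self p hj) 2
      rcases huv with h | h
      · rw [h] at d1
        exact (Nat.dvd_add_right d2).1 d1
      · rw [← h] at d2
        exact (Nat.dvd_add_right d1).1 d2
    have hp3 : p = 3 := (Nat.prime_dvd_prime_iff_eq hp Nat.prime_three).1 h3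
    refine ⟨hp3, ?_⟩
    by_contra hcon
    push Not at hcon
    subst hp3
    have hi2 : 2 ≤ i := by
      rcases Nat.lt_or_ge i 2 with h | h
      · exact absurd (by rw [show i = 1 by omega, pow_one] : 3 ^ i = 3) hcon.1
      · exact h
    have hj2 : 2 ≤ j := by
      rcases Nat.lt_or_ge j 2 with h | h
      · exact absurd (by rw [show j = 1 by omega, pow_one] : 3 ^ j = 3) hcon.2
      · exact h
    have d1 : 9 ∣ 3 ^ i := pow_dvd_pow 3 hi2
    have d2 : 9 ∣ 3 ^ j := pow_dvd_pow 3 hj2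
    obtain ⟨c, hc⟩ := d1
    obtain ⟨c', hc'⟩ := d2
    omega
  rcases h with h | h
  · exfalso
    have h1 : p ^ a = (8 * x - 1) * (4 * x + 1) := by
      obtain ⟨y, hy⟩ : ∃ y, 8 * x = y + 1 := ⟨8 * x - 1, by omega⟩
      have h2 : 2 * (4 * x) = y + 1 := by rw [← hy]; ring
      rw [h2] at h
      rw [hy, Nat.add_sub_cancel]
      have h3 : 4 * x * (y + 1 + 1) = 4 * x * y + 4 * x * 2 := by ring
      have h4 : y * (4 * x + 1) = 4 * x * y + y := by ring
      omega
    have h2 := hthree (8 * x - 1) (4 * x + 1) (by omega) (by omega) (h1 ▸ Dvd.intro _ rfl) (h1 ▸ Dvd.intro_left _ rfl)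
      (by right; omega)
    omega
  · have h1 : p ^ a = (8 * x + 1) * (4 * x - 1) := by
      obtain ⟨y, hy⟩ : ∃ y, 4 * x = y + 1 := ⟨4 * x - 1, by omega⟩
      have h2 : 8 * x = 2 * y + 2 := by omega
      rw [hy] at h ⊢
      rw [h2, Nat.add_sub_cancel]
      have h3 : (y + 1) * (2 * (y + 1) - 1) = (y + 1) * (2 * y + 1) := by
        congr 1
      have h4 : (y + 1) * (2 * y + 1) = (2 * y + 2 + 1) * y + 1 := by ring
      omega
    have h2 := hthree (8 * x + 1) (4 * x - 1) (by omega) (by omega) (h1 ▸ Dvd.intro _ rfl) (h1 ▸ Dvd.intro_left _ rfl)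
      (by left; omega)
    have hx1 : x = 1 := by omega
    have hk : k = 0 := by
      by_contra hk
      have : 2 ^ 1 ≤ 2 ^ k := Nat.pow_le_pow_right (by norm_num) (by omega)
      omega
    refine ⟨by omega, ?_⟩
    rw [h1, hx1]

section

variable {G : Type u} {Ω : Type v} [Group G] [MulAction G Ω] {T : Subgroup G}

/-- rank one groups in natural degree -/
theorem rank_one (A : AS G Ω T) {p a e : ℕ} (hp : p.Prime) (hc : Nat.card Ω = p ^ a + 1) {H : Subgroup G}
    (hH : IsMultiplyPretransitive H Ω 2) (he : H.index = p ^ e) (hv : (Nat.card ↥T).factorization p = a) {g f : ℕ}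
    (ho : Nat.card (Cfsg.Out ↥T) = g * f) (hg : Nat.Coprime p g) (hf : 0 < f) (hfa : f ≤ a) :
    T ≤ H ∧ p ^ e ≤ max a 2 := by
  have h1 := (ppart_le A ho hg hf).trans hfa
  have h2 : T ≤ H := by
    apply key A hp hc hH he
    rw [hv, mul_comm]
    exact Nat.mul_le_mul_right _ h1
  exact ⟨h2, ((e_le A hp he h2).trans h1).trans (le_max_left _ _)⟩

theorem psl_two (A : AS G Ω T) {p a e : ℕ} (hp : p.Prime) (hc : Nat.card Ω = p ^ a + 1) {H : Subgroup G}
    (hH : IsMultiplyPretransitive H Ω 2) (he : H.index = p ^ e) {F : Type} [Field F] [Fintype F]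
    (f : Nonempty (T ≃* Matrix.ProjectiveSpecialLinearGroup (Fin 2) F)) (hF : Fintype.card F = p ^ a) (h4 : 4 ≤ p ^ a) :
    T ≤ H ∧ p ^ e ≤ max a 2 := by
  have := A.finT
  have := A.simple
  have := Fact.mk hp
  obtain ⟨f⟩ := f
  have ha : 1 ≤ a := by
    by_contra h0
    rw [show a = 0 by omega] at h4
    simp at h4
  have hcT : Nat.card ↥T = Nat.card (Matrix.ProjectiveSpecialLinearGroup (Fin 2) F) := Nat.card_congr f.toEquiv
  have h1 := Cfsg.Agent.S0243.result (F := F) rfl 2 le_rfl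
  rw [hF, ← hcT, Fin.prod_univ_two] at h1
  simp only [Fin.val_zero, Fin.val_one, pow_zero, pow_one] at h1
  have hpq : p ∣ p ^ a := dvd_pow_self p (by omega)
  have hq1 : ¬ p ∣ p ^ a - 1 := not_dvd_pred hp hpq (by positivity)
  have hq2 : ¬ p ∣ (p ^ a) ^ 2 - 1 := not_dvd_pred hp (dvd_pow hpq two_ne_zero) (by positivity)
  have hg : ¬ p ∣ Nat.gcd 2 (p ^ a - 1) := fun h => hq1 (h.trans (Nat.gcd_dvd_right _ _))
  have e1 : (p ^ a) ^ 2 - p ^ a = p ^ a * (p ^ a - 1) := by
    rw [Nat.mul_sub, mul_one, pow_two]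
  have hv : (Nat.card ↥T).factorization p = a := by
    refine fac_of_mul hp (N := Nat.gcd 2 (p ^ a - 1) * (p ^ a - 1)) (K := ((p ^ a) ^ 2 - 1) * (p ^ a - 1)) ?_ ?_ ?_
    · rw [mul_assoc, h1, e1]; ring
    · exact fun h => (hp.dvd_mul.1 h).elim hg hq1
    · exact fun h => (hp.dvd_mul.1 h).elim hq2 hq1
  have h2 := Cfsg.Agent.S0813.result (F := F) p a ha hF 2 le_rfl (fun _ => h4)
  have h3 : Nat.card (Matrix.ProjGenLinGroup (Fin 2) F) =
      Nat.gcd 2 (p ^ a - 1) * Nat.card (Matrix.ProjectiveSpecialLinearGroup (Fin 2) F) := by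
    have e2 : Nat.card (Matrix.ProjGenLinGroup (Fin 2) F) * (Fintype.card F - 1) = Nat.card (Matrix.GeneralLinearGroup (Fin 2) F) :=
      Cfsg.Agent.ClassicalGeometry.PSL2Basic.card_PGL_mul (Fin 2) F
    rw [Matrix.card_GL_field, ← Cfsg.Agent.S0243.result (F := F) rfl 2 le_rfl, hF] at e2
    have h5 : 0 < p ^ a - 1 := by omega
    apply Nat.eq_of_mul_eq_mul_right h5
    rw [e2]; ring
  rw [if_pos rfl, one_mul, h3, ← mul_assoc, ← hcT] at h2
  have h4' : Nat.card (MulAut ↥T) = Nat.card (MulAut (Matrix.ProjectiveSpecialLinearGroup (Fin 2) F)) :=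
    Nat.card_congr (MulAut.congr f).toEquiv
  have h5 := Cfsg.Agent.H934.OutB.card_out_of_aut A.nonab (h4'.trans h2)
  rw [mul_comm] at h5
  exact rank_one A hp hc hH he hv h5 ((Nat.Prime.coprime_iff_not_dvd hp).2 hg) (by omega) le_rfl

theorem psu_three (A : AS G Ω T) {p a e : ℕ} (hp : p.Prime) (hc : Nat.card Ω = p ^ a + 1) {H : Subgroup G}
    (hH : IsMultiplyPretransitive H Ω 2) (he : H.index = p ^ e) {F : Type} [Field F] [Fintype F] {q : ℕ} (hq : 3 ≤ q)
    (hF : Fintype.card F = q ^ 2) (f : Nonempty (T ≃* Cfsg.PSU 3 F q)) (hqa : q ^ 3 = p ^ a) :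
    T ≤ H ∧ p ^ e ≤ max a 2 := by
  have := A.finT
  have := A.simple
  have := Fact.mk hp
  obtain ⟨f⟩ := f
  obtain ⟨b, -, hb⟩ : ∃ b ≤ a, q = p ^ b := (Nat.dvd_prime_pow hp).1 (hqa ▸ dvd_pow_self q (by norm_num))
  have hb0 : 1 ≤ b := by
    by_contra h0
    rw [show b = 0 by omega] at hb
    simp at hb
    omega
  have hab : a = 3 * b := by
    rw [hb, ← pow_mul] at hqa
    have := Nat.pow_right_injective hp.two_le hqa
    omega
  have hcT : Nat.card ↥T = Nat.card (Cfsg.PSU 3 F q) := Nat.card_congr f.toEquiv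
  have h1 := Cfsg.Agent.S0280.result (F := F) hF 3 (by norm_num)
  rw [← hcT, Finset.prod_range_succ, Finset.prod_range_succ, Finset.prod_range_one] at h1
  norm_num at h1
  have hpq : p ∣ q := hb ▸ dvd_pow_self p (by omega)
  have hq0 : 0 < q := by omega
  have hv : (Nat.card ↥T).factorization p = a := by
    refine fac_of_mul hp (N := Nat.gcd 3 (q + 1) * (q + 1)) (K := (q + 1) * (q ^ 2 - 1) * (q ^ 3 + 1)) ?_ ?_ ?_
    · rw [mul_assoc, h1, ← hqa]
    · intro h
      rcases hp.dvd_mul.1 h with h | h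
      · exact not_dvd_succ hp hpq (h.trans (Nat.gcd_dvd_right _ _))
      · exact not_dvd_succ hp hpq h
    · intro h
      rcases hp.dvd_mul.1 h with h | h
      · rcases hp.dvd_mul.1 h with h | h
        · exact not_dvd_succ hp hpq h
        · exact not_dvd_pred hp (dvd_pow hpq two_ne_zero) (by positivity) h
      · exact not_dvd_succ hp (dvd_pow hpq three_ne_zero) h
  have h2 := Cfsg.Agent.S0815.result (F := F) p b hb0 hb hF 3 le_rfl (by omega)
  rw [← hcT] at h2
  have h4' : Nat.card (MulAut ↥T) = Nat.card (MulAut (Cfsg.PSU 3 F q)) := Nat.card_congr (MulAut.congr f).toEquiv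
  have h5 := Cfsg.Agent.H934.OutB.card_out_of_aut A.nonab (h4'.trans h2)
  refine rank_one A hp hc hH he hv h5 ?_ (by omega) (by omega)
  rw [Nat.Prime.coprime_iff_not_dvd hp]
  exact fun h => not_dvd_succ hp hpq (h.trans (Nat.gcd_dvd_right _ _))

theorem sz (A : AS G Ω T) {p a e : ℕ} (hp : p.Prime) (hc : Nat.card Ω = p ^ a + 1) {H : Subgroup G}
    (hH : IsMultiplyPretransitive H Ω 2) (he : H.index = p ^ e) {F : Type} [Field F] [Fintype F] {m : ℕ} (hm : 1 ≤ m)
    (hF : Fintype.card F = 2 ^ (2 * m + 1)) (f : Nonempty (T ≃* ↥(Cfsg.Lie.Sz F (2 ^ (m + 1)))))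
    (hqa : Fintype.card F ^ 2 = p ^ a) : T ≤ H ∧ p ^ e ≤ max a 2 := by
  have := A.finT
  have := A.simple
  obtain ⟨f⟩ := f
  rw [hF] at hqa
  have hp2 : p = 2 := by
    have h2 : 2 ∣ p ^ a := hqa ▸ dvd_pow (dvd_pow_self 2 (by omega)) two_ne_zero
    exact ((Nat.prime_dvd_prime_iff_eq Nat.prime_two hp).1 (Nat.prime_two.dvd_of_dvd_pow h2)).symm
  subst hp2
  have hab : a = 2 * (2 * m + 1) := by
    rw [← pow_mul] at hqa
    have := Nat.pow_right_injective le_rfl hqa
    omega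
  have hcT : Nat.card ↥T = Nat.card ↥(Cfsg.Lie.Sz F (2 ^ (m + 1))) := Nat.card_congr f.toEquiv
  have h1 := (Cfsg.Agent.S1163.result hm hF).1
  rw [← hcT] at h1
  have hpq : 2 ∣ 2 ^ (2 * m + 1) := dvd_pow_self 2 (by omega)
  have hv : (Nat.card ↥T).factorization 2 = a := by
    refine fac_of_mul hp (N := 1) (K := (2 ^ (2 * m + 1) - 1) * ((2 ^ (2 * m + 1)) ^ 2 + 1)) ?_ (by norm_num) ?_
    · rw [one_mul, h1, ← hqa]; ring
    · intro h
      rcases hp.dvd_mul.1 h with h | h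
      · exact not_dvd_pred hp hpq (by positivity) h
      · exact not_dvd_succ hp (dvd_pow hpq two_ne_zero) h
  have h2 : Nat.card (Cfsg.Out ↥T) = 1 * (2 * m + 1) := by
    rw [one_mul, Cfsg.Agent.H934.OutB.card_out_congr f]
    exact Cfsg.Agent.S2126.result hm hF
  exact rank_one A hp hc hH he hv h2 (Nat.coprime_one_right _) (by omega) (by omega)

theorem ree (A : AS G Ω T) {p a e : ℕ} (hp : p.Prime) (hc : Nat.card Ω = p ^ a + 1) {H : Subgroup G}
    (hH : IsMultiplyPretransitive H Ω 2) (he : H.index = p ^ e) {K : Type} [Field K] [Fintype K] {m : ℕ} (hm : 1 ≤ m)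
    (hK : Fintype.card K = 3 ^ (2 * m + 1)) (f : Nonempty (T ≃* ↥(Cfsg.Lie.twistedG2 K (3 ^ m))))
    (hqa : Fintype.card K ^ 3 = p ^ a) : T ≤ H ∧ p ^ e ≤ max a 2 := by
  have := A.finT
  have := A.simple
  obtain ⟨f⟩ := f
  rw [hK] at hqa
  have hp3 : p = 3 := by
    have h2 : 3 ∣ p ^ a := hqa ▸ dvd_pow (dvd_pow_self 3 (by omega)) three_ne_zero
    exact ((Nat.prime_dvd_prime_iff_eq Nat.prime_three hp).1 (Nat.prime_three.dvd_of_dvd_pow h2)).symm
  subst hp3
  have hab : a = 3 * (2 * m + 1) := by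
    rw [← pow_mul] at hqa
    have := Nat.pow_right_injective (show 2 ≤ 3 by norm_num) hqa
    omega
  have hcT : Nat.card ↥T = Nat.card ↥(Cfsg.Lie.twistedG2 K (3 ^ m)) := Nat.card_congr f.toEquiv
  have h1 := Cfsg.Agent.S1069.result hK
  rw [← hcT] at h1
  have hpq : 3 ∣ 3 ^ (2 * m + 1) := dvd_pow_self 3 (by omega)
  have hv : (Nat.card ↥T).factorization 3 = a := by
    refine fac_of_mul hp (N := 1) (K := (3 ^ (2 * m + 1) - 1) * ((3 ^ (2 * m + 1)) ^ 3 + 1)) ?_ (by norm_num) ?_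
    · rw [one_mul, h1, ← hqa]; ring
    · intro h
      rcases hp.dvd_mul.1 h with h | h
      · exact not_dvd_pred hp hpq (by positivity) h
      · exact not_dvd_succ hp (dvd_pow hpq three_ne_zero) h
  have h2 : Nat.card (Cfsg.Out ↥T) = 1 * (2 * m + 1) := by
    rw [one_mul, Cfsg.Agent.H934.OutB.card_out_congr f]
    exact Cfsg.Agent.S2127.result hm hK
  exact rank_one A hp hc hH he hv h2 (Nat.coprime_one_right _) (by omega) (by omega)

theorem sp_six (A : AS G Ω T) {p a e : ℕ} (hp : p.Prime) (hc : Nat.card Ω = p ^ a + 1) {H : Subgroup G}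
    (hH : IsMultiplyPretransitive H Ω 2) (he : H.index = p ^ e) {F : Type} [Field F] [Fintype F]
    (hF : Fintype.card F = 2) (f : Nonempty (T ≃* Cfsg.PSp 3 F)) (hqa : p ^ a = 27) : T ≤ H ∧ p ^ e ≤ max a 2 := by
  have := A.finT
  have := A.simple
  obtain ⟨f⟩ := f
  have hp3 : p = 3 := by
    have h2 : 3 ∣ p ^ a := hqa ▸ (by norm_num)
    exact ((Nat.prime_dvd_prime_iff_eq Nat.prime_three hp).1 (Nat.prime_three.dvd_of_dvd_pow h2)).symm
  subst hp3
  have hab : a = 3 := Nat.pow_right_injective (show 2 ≤ 3 by norm_num) (hqa.trans (by norm_num : 27 = 3 ^ 3))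
  have hcT : Nat.card ↥T = Nat.card (Cfsg.PSp 3 F) := Nat.card_congr f.toEquiv
  have h1 : Nat.card (Cfsg.PSp 3 F) = 1451520 := by
    have e1 := Cfsg.Agent.S0245.result hF 3
    have e2 := Cfsg.Agent.S0246.result hF 3 (by norm_num)
    have e3 := Subgroup.card_mul_index (Subgroup.center ↥(Matrix.symplecticGroup (Fin 3) F))
    rw [e1, e2] at e3
    rw [Finset.prod_range_succ, Finset.prod_range_succ, Finset.prod_range_one] at e3
    norm_num at e3
    exact e3
  have hv : (Nat.card ↥T).factorization 3 = 4 := by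
    refine fac_of_mul hp (N := 1) (K := 17920) ?_ (by norm_num) (by norm_num)
    rw [one_mul, hcT, h1]; norm_num
  have hp2 : Fact (Nat.Prime 2) := ⟨Nat.prime_two⟩
  have h2 := Cfsg.Agent.S0814.result (F := F) 2 1 le_rfl (by rw [hF]; norm_num) 3 (by norm_num) (by norm_num)
  rw [← hcT] at h2
  norm_num at h2
  have h4' : Nat.card (MulAut ↥T) = Nat.card (MulAut (Cfsg.PSp 3 F)) := Nat.card_congr (MulAut.congr f).toEquiv
  have h5 := Cfsg.Agent.H934.OutB.card_out_of_aut (n := 1) A.nonab (by rw [h4', h2, one_mul])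
  have h6 := ppart_le A (g := 1) (f := 1) (p := 3) (by rw [h5]) (by norm_num) one_pos
  have h7 : T ≤ H := by
    apply key A hp hc hH he
    rw [hv, hab]
    omega
  exact ⟨h7, ((e_le A hp he h7).trans h6).trans (by omega)⟩

theorem psl_eight (A : AS G Ω T) {p a e : ℕ} (hp : p.Prime) (hc : Nat.card Ω = p ^ a + 1) {H : Subgroup G}
    (hH : IsMultiplyPretransitive H Ω 2) (he : H.index = p ^ e) {F : Type} [Field F] [Fintype F]
    (f : Nonempty (T ≃* Matrix.ProjectiveSpecialLinearGroup (Fin 2) F)) (hF : Fintype.card F = 8) (hqa : p ^ a = 27) :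
    T ≤ H ∧ p ^ e ≤ max a 2 := by
  have := A.finT
  have := A.simple
  obtain ⟨f⟩ := f
  have hp3 : p = 3 := by
    have h2 : 3 ∣ p ^ a := hqa ▸ (by norm_num)
    exact ((Nat.prime_dvd_prime_iff_eq Nat.prime_three hp).1 (Nat.prime_three.dvd_of_dvd_pow h2)).symm
  subst hp3
  have hab : a = 3 := Nat.pow_right_injective (show 2 ≤ 3 by norm_num) (hqa.trans (by norm_num : 27 = 3 ^ 3))
  have hcT : Nat.card ↥T = Nat.card (Matrix.ProjectiveSpecialLinearGroup (Fin 2) F) := Nat.card_congr f.toEquiv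
  have h1 := Cfsg.Agent.S0243.result (F := F) rfl 2 le_rfl
  rw [hF, Fin.prod_univ_two] at h1
  norm_num at h1
  have h1' : Nat.card (Matrix.ProjectiveSpecialLinearGroup (Fin 2) F) = 504 := by omega
  have hv : (Nat.card ↥T).factorization 3 = 2 := by
    refine fac_of_mul hp (N := 1) (K := 56) ?_ (by norm_num) (by norm_num)
    rw [one_mul, hcT, h1']; norm_num
  have hp2 : Fact (Nat.Prime 2) := ⟨Nat.prime_two⟩
  have h2 := Cfsg.Agent.S0813.result (F := F) 2 3 (by norm_num) (by rw [hF]; norm_num) 2 le_rfl (by norm_num)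
  have h3 : Nat.card (Matrix.ProjGenLinGroup (Fin 2) F) = Nat.card (Matrix.ProjectiveSpecialLinearGroup (Fin 2) F) := by
    have e2 : Nat.card (Matrix.ProjGenLinGroup (Fin 2) F) * (Fintype.card F - 1) = Nat.card (Matrix.GeneralLinearGroup (Fin 2) F) :=
      Cfsg.Agent.ClassicalGeometry.PSL2Basic.card_PGL_mul (Fin 2) F
    rw [Matrix.card_GL_field, ← Cfsg.Agent.S0243.result (F := F) rfl 2 le_rfl, hF] at e2
    norm_num at e2
    omega
  rw [if_pos rfl, h3, one_mul, ← hcT] at h2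
  have h4' : Nat.card (MulAut ↥T) = Nat.card (MulAut (Matrix.ProjectiveSpecialLinearGroup (Fin 2) F)) :=
    Nat.card_congr (MulAut.congr f).toEquiv
  have h5 := Cfsg.Agent.H934.OutB.card_out_of_aut (n := 3) A.nonab (h4'.trans h2)
  have h6 := ppart_le A (g := 1) (f := 3) (p := 3) (by rw [h5]) (by norm_num) (by norm_num)
  have h7 : T ≤ H := by
    apply key A hp hc hH he
    rw [hv, hab]
    omega
  exact ⟨h7, ((e_le A hp he h7).trans h6).trans (by omega)⟩

/-- **2-transitive subgroups of `p`-power index in degree `p ^ a + 1`** -/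
theorem main (A : AS G Ω T) (hK : Known2 ↥T (Nat.card Ω)) {p a e : ℕ} (hp : p.Prime) (ha : 1 ≤ a)
    (hc : Nat.card Ω = p ^ a + 1) {H : Subgroup G} (hH : IsMultiplyPretransitive H Ω 2) (he : H.index = p ^ e) :
    T ≤ H ∧ p ^ e ≤ max a 2 := by
  rcases eq_or_lt_of_le ha with rfl | ha2
  · have h0 := degree_one A hp hc hH he
    subst h0
    rw [pow_zero] at he ⊢
    rw [Subgroup.index_eq_one] at he
    exact ⟨he ▸ le_top, by norm_num⟩
  have hcN := hc
  have bad : ∀ {N : ℕ}, Nat.card Ω = N + 1 → Squarefree N → T ≤ H ∧ p ^ e ≤ max a 2 := fun h1 h2 =>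
    absurd (by omega : p ^ a = _) (pow_ne_of_sq hp ha2 h2)
  have sq : ∀ n ∈ [5, 7, 10, 11, 14, 21, 22, 23], Squarefree n := by decide +kernel
  generalize hN : Nat.card Ω = N at hK
  cases hK with
  | alt n hn f =>
    obtain ⟨f⟩ := f
    have h1 := alt_case A hp ha2 hc hH he (by
      have : Nontrivial (Fin N) := Fin.nontrivial_iff_two_le.2 (by omega)
      rw [Nat.card_congr f.toEquiv, two_mul_nat_card_alternatingGroup, Nat.card_perm, Nat.card_eq_fintype_card, Fintype.card_fin,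
        hN])
    exact ⟨h1.1, h1.2.trans (le_max_right _ _)⟩
  | psl F d n hd hd2 f hn =>
    rw [← hN, hc] at hn
    obtain ⟨rfl, hF⟩ := psl_num hp hd (Fintype.one_lt_card) hn
    exact psl_two A hp hc hH he f hF (hF ▸ hd2 rfl)
  | sp F m n hF hm f hn =>
    rw [← hN, hc] at hn
    obtain ⟨rfl, h27⟩ := sp_num hp hm hn
    exact sp_six A hp hc hH he hF f h27
  | psu F q n hq hF f hn => exact psu_three A hp hc hH he hq hF f (by omega)
  | sz F m n hm hF f hn => exact sz A hp hc hH he hm hF f (by omega)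
  | ree K m n hm hK f hn => exact ree A hp hc hH he hm hK f (by omega)
  | psl2_8 F hF f => exact psl_eight A hp hc hH he f hF (by omega)
  | psl2_9 F hF f => exact bad (N := 5) hN (sq _ (by simp))
  | psl2_11 F hF f => exact bad (N := 10) hN (sq _ (by simp))
  | psl4_2 F hF f => exact bad (N := 7) hN (sq _ (by simp))
  | a7 f => exact bad (N := 14) hN (sq _ (by simp))
  | m11 h => exact bad (N := 10) hN (sq _ (by simp))
  | m11' h => exact bad (N := 11) hN (sq _ (by simp))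
  | m12 h => exact bad (N := 11) hN (sq _ (by simp))
  | m22 h => exact bad (N := 21) hN (sq _ (by simp))
  | m23 h => exact bad (N := 22) hN (sq _ (by simp))
  | m24 h => exact bad (N := 23) hN (sq _ (by simp))
  | hs h =>
    exact absurd (by omega : p ^ a = 175) (pow_ne_of_two hp Nat.prime_five (by norm_num : Nat.Prime 7) (by norm_num)
      (by norm_num) (by norm_num))
  | co3 h =>
    exact absurd (by omega : p ^ a = 275) (pow_ne_of_two hp Nat.prime_five (by norm_num : Nat.Prime 11) (by norm_num)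
      (by norm_num) (by norm_num))

end

end Cfsg.Agent.H803.BP
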